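import Cfsg.Agent.H146.KW.Iface
import Cfsg.Agent.H786.KW.Count
import Cfsg.Agent.S0144

/-!
# S4243, sporadic rows: numeric criteria (helper550)

* `Kill G p` : no proper subgroup `H` with the Sylow condition has order divisible by `p`
* `kill_one` : `p² ∤ |G|`
* `kill_sq` : `|G|_p = p²` and a prime `s` not adjacent to `p`
* `kill_prod` : a divisor `m ≥ |G|_p` of `|G|`, prime to `|C(x)|` (`x` of order `p`)
* `noKW_of_kill` : all primes except two are killed
-/

set_option autoImplicit false
set_option linter.unusedSectionVars false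

open Subgroup

namespace Cfsg.Agent.H550.KW

open Cfsg.Agent.H146.KW

universe u

variable {G : Type u} [Group G] [Finite G]

/-- `p` does not divide the order of a proper subgroup with the Sylow condition. -/
def Kill (G : Type u) [Group G] (p : ℕ) : Prop :=
  ∀ H : Subgroup G, H ≠ ⊤ → PSubAll H → ¬ p ∣ Nat.card H

/-- no element of order `p` commutes with an element of order `s` -/
def Sep (G : Type u) [Group G] (p s : ℕ) : Prop :=
  ∀ x y : G, orderOf x = p → orderOf y = s → x * y ≠ y * x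

theorem Sep.symm {p s : ℕ} (h : Sep G p s) : Sep G s p := fun x y hx hy hxy => h y x hy hx hxy.symm

theorem Sep.not_dvd {p s : ℕ} (hs : s.Prime) (h : Sep G p s) {x : G} (hx : orderOf x = p) :
    ¬ s ∣ Nat.card (centralizer ({x} : Set G)) := by
  intro hd
  have := Fact.mk hs
  obtain ⟨y, hy⟩ := exists_prime_orderOf_dvd_card' s hd
  refine h x y hx (by rw [Subgroup.orderOf_coe, hy]) ?_
  exact (mem_centralizer_singleton_iff.1 y.2).symm

theorem sep_of_card {p s c : ℕ} (hp : p.Prime) (hc : ∀ y : G, orderOf y = s → Nat.card (centralizer ({y} : Set G)) ∣ c)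
    (hpc : ¬ p ∣ c) : Sep G p s := by
  intro x y hx hy hxy
  apply hpc
  refine dvd_trans ?_ (hc y hy)
  have h1 : x ∈ centralizer ({y} : Set G) := mem_centralizer_singleton_iff.2 hxy
  have h2 := orderOf_dvd_natCard (⟨x, h1⟩ : centralizer ({y} : Set G))
  rwa [Subgroup.orderOf_mk, hx] at h2

/-- the same with subgroups of order `s` -/
theorem sep_of_card' {p s c : ℕ} (hp : p.Prime)
    (hc : ∀ R : Subgroup G, Nat.card R = s → Nat.card (centralizer (R : Set G)) ∣ c)
    (hpc : ¬ p ∣ c) : Sep G p s := by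
  refine sep_of_card hp (c := c) (fun y hy => ?_) hpc
  have h1 := hc (zpowers y) (by rw [Nat.card_zpowers, hy])
  have h2 : centralizer ((zpowers y : Subgroup G) : Set G) = centralizer ({y} : Set G) := by
    rw [zpowers_eq_closure, centralizer_closure]
  rwa [h2] at h1

section
variable [IsSimpleGroup G]

theorem kill_one {p n : ℕ} (hn : Nat.card G = n) (hp : p.Prime) (h : ¬ p ^ 2 ∣ n) : Kill G p := by
  intro H ht hK hd
  have := Fact.mk hp
  exact ht ((hK p).eq_top_of_not_sq_dvd hd (by rwa [hn]))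

theorem exists_mem_order {p : ℕ} (hp : p.Prime) {H : Subgroup G} (hd : p ∣ Nat.card H) :
    ∃ x ∈ H, orderOf x = p := by
  have := Fact.mk hp
  obtain ⟨x, hx⟩ := exists_prime_orderOf_dvd_card' p hd
  exact ⟨x, x.2, by rw [Subgroup.orderOf_coe, hx]⟩

theorem kill_sq {p s n : ℕ} (hn : Nat.card G = n) (hp : p.Prime) (hs : s.Prime) (h2 : p ^ 2 ∣ n) (h3 : ¬ p ^ 3 ∣ n)
    (hsn : s ∣ n) (hks : Kill G s) (hsp : ¬ s ∣ p * (p - 1) * (p + 1)) (hsep : Sep G p s) : Kill G p := by
  intro H ht hK hd
  have := Fact.mk hp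
  obtain ⟨x, hxH, hx⟩ := exists_mem_order hp hd
  have hfac : (Nat.card G).factorization p = 2 := by
    rw [hn]
    have hn0 : n ≠ 0 := by rw [← hn]; exact Nat.card_pos.ne'
    apply le_antisymm
    · by_contra h4
      exact h3 ((hp.pow_dvd_iff_le_factorization hn0).2 (by omega))
    · exact (hp.pow_dvd_iff_le_factorization hn0).1 h2
  have h4 := Cfsg.Agent.H786.KW.Sat.not_dvd_of_card_sq (hK p) hfac hs (hks H ht hK) hsp hxH
    (k := 1) (by rw [pow_one, ← hx, pow_orderOf_eq_one])
  have h5 := Subgroup.card_mul_index (centralizer ({x} : Set G))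
  rw [hn] at h5
  rcases hs.dvd_mul.1 (h5 ▸ hsn) with h6 | h6
  · exact hsep.not_dvd hs hx h6
  · exact h4 h6

/-- the number of conjugates is the index of the centralizer -/
theorem card_class (x : G) : Nat.card {y : G // IsConj x y} = (centralizer ({x} : Set G)).index :=
  (Cfsg.Agent.H786.KW.index_eq_card_isConj x).symm

theorem dvd_class {n m : ℕ} (hn : Nat.card G = n) {x : G} (hm : m ∣ n)
    (hco : m.Coprime (Nat.card (centralizer ({x} : Set G)))) : m ∣ Nat.card {y : G // IsConj x y} := by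
  rw [card_class]
  have h5 := Subgroup.card_mul_index (centralizer ({x} : Set G))
  rw [hn] at h5
  exact hco.dvd_of_dvd_mul_left (h5 ▸ hm)

theorem kill_prod {p n m a : ℕ} (hn : Nat.card G = n) (hp : p.Prime) (hm : m ∣ n)
    (hk : ∀ s : ℕ, s.Prime → s ∣ m → Kill G s) (hsep : ∀ s : ℕ, s.Prime → s ∣ m → Sep G p s)
    (ha : ¬ p ^ (a + 1) ∣ n) (hma : p ^ a ≤ m) : Kill G p := by
  intro H ht hK hd
  have := Fact.mk hp
  obtain ⟨x, hxH, hx⟩ := exists_mem_order hp hd
  have hx1 : x ≠ 1 := by
    rintro rfl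
    rw [orderOf_one] at hx
    exact hp.one_lt.ne hx
  obtain ⟨P, hP⟩ := (IsPGroup.of_card (p := p) (n := 1) (G := zpowers x)
    (by rw [Nat.card_zpowers, hx, pow_one])).exists_le_sylow
  have hxP : x ∈ P := hP (mem_zpowers x)
  have hco1 : m.Coprime (Nat.card (centralizer ({x} : Set G))) := by
    rw [Nat.coprime_iff_gcd_eq_one]
    by_contra h1
    obtain ⟨s, hs, hsd⟩ := Nat.exists_prime_and_dvd h1
    exact (hsep s hs (hsd.trans (Nat.gcd_dvd_left _ _))).not_dvd hs hx (hsd.trans (Nat.gcd_dvd_right _ _))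
  have hco2 : m.Coprime (Nat.card H) := by
    rw [Nat.coprime_iff_gcd_eq_one]
    by_contra h1
    obtain ⟨s, hs, hsd⟩ := Nat.exists_prime_and_dvd h1
    exact hk s hs (hsd.trans (Nat.gcd_dvd_left _ _)) H ht hK (hsd.trans (Nat.gcd_dvd_right _ _))
  have h1 := (hK p).lt_card_sylow hxH hx1 P hxP (dvd_class hn hm hco1) hco2
  have h2 : Nat.card P ≤ p ^ a := by
    rw [P.card_eq_multiplicity]
    refine Nat.pow_le_pow_right hp.pos ?_
    by_contra h3
    have hn0 : n ≠ 0 := by rw [← hn]; exact Nat.card_pos.ne'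
    exact ha ((hp.pow_dvd_iff_le_factorization hn0).2 (by rw [← hn]; omega))
  omega

theorem exists_third {H : Type u} [Group H] [Finite H] (hs : IsSimpleGroup H)
    (hc : ¬ IsMulCommutative H) {a b : ℕ} (ha : a.Prime) (hb : b.Prime) (hab : a ≠ b) :
    ∃ p : ℕ, p.Prime ∧ p ≠ a ∧ p ≠ b ∧ p ∣ Nat.card H := by
  by_contra hcon
  push Not at hcon
  have h0 : Nat.card H ≠ 0 := Nat.card_pos.ne'
  have h1 := Cfsg.Agent.S0144.result a b _ _ ha hb (G := H)
    (Nat.eq_of_factorization_eq h0 (b := a ^ (Nat.card H).factorization a * b ^ (Nat.card H).factorization b)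
      (mul_ne_zero (pow_ne_zero _ ha.ne_zero) (pow_ne_zero _ hb.ne_zero)) fun q => by
        rw [Nat.factorization_mul (pow_ne_zero _ ha.ne_zero) (pow_ne_zero _ hb.ne_zero),
          ha.factorization_pow, hb.factorization_pow, Finsupp.add_apply, Finsupp.single_apply, Finsupp.single_apply]
        by_cases hqa : a = q
        · subst hqa
          rw [if_pos rfl, if_neg hab.symm, add_zero]
        · rw [if_neg hqa, zero_add]
          by_cases hqb : b = q
          · subst hqb
            rw [if_pos rfl]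
          · rw [if_neg hqb]
            by_cases hq : q.Prime
            · apply Nat.factorization_eq_zero_of_not_dvd
              exact hcon q hq (Ne.symm hqa) (Ne.symm hqb)
            · exact Nat.factorization_eq_zero_of_not_prime _ hq)
  have h4 := IsSimpleGroup.comm_iff_isSolvable.mpr h1
  exact hc ⟨⟨h4⟩⟩

theorem noKW_of_kill (a b : ℕ) (ha : a.Prime) (hb : b.Prime) (hab : a ≠ b)
    (h : ∀ p : ℕ, p.Prime → p ∣ Nat.card G → p ≠ a → p ≠ b → Kill G p) : NoKW G := by
  intro H hs hc ht hK _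
  obtain ⟨p, hp, hpa, hpb, hd⟩ := exists_third hs hc ha hb hab
  exact h p hp (hd.trans (card_subgroup_dvd_card H)) hpa hpb H ht hK hd

end

end Cfsg.Agent.H550.KW
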