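import Cfsg.Agent.H550.KW.Crit

/-!
# S4243, sporadic rows: `|G|₅ = 125` and `77 ∣ |G|` (McL)  (helper550)
-/

set_option autoImplicit false
set_option linter.unusedSectionVars false

open Subgroup

namespace Cfsg.Agent.H550.KW

open Cfsg.Agent.H146.KW

universe u

/-- an automorphism of prime order `s` of a group of order `p ^ 3` -/
theorem dvd_of_aut3 {A : Type*} [Group A] {p : ℕ} [hp : Fact p.Prime] (hA : Nat.card A = p ^ 3) {s : ℕ} (hs : s.Prime)
    {α : MulAut A} (hα : orderOf α = s) : s ∣ p ^ 3 - 1 ∨ s ∣ p ^ 3 - p ∨ s ∣ p ^ 3 - p ^ 2 := by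
  have hs' : Fact s.Prime := ⟨hs⟩
  have hp0 := hp.out.pos
  have hfin : Finite A := Nat.finite_of_card_ne_zero (by rw [hA]; positivity)
  have hG : IsPGroup s (zpowers α) := IsPGroup.of_card (n := 1) (by rw [Nat.card_zpowers, hα, pow_one])
  have h1 := hG.card_modEq_card_fixedPoints A
  have h2 : Nat.card (MulAction.fixedPoints (zpowers α) A) = Nat.card (FixedPoints.subgroup (zpowers α) A) := rfl
  have h3 : Nat.card (FixedPoints.subgroup (zpowers α) A) ∣ p ^ 3 := hA ▸ Subgroup.card_subgroup_dvd_card _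
  obtain ⟨i, hi, hi'⟩ := (Nat.dvd_prime_pow hp.out).1 h3
  rw [h2, hi', hA] at h1
  have hi2 : i ≠ 3 := by
    rintro rfl
    have h4 : FixedPoints.subgroup (zpowers α) A = ⊤ := Subgroup.eq_top_of_card_eq _ (by rw [hi', hA])
    have h5 : α = 1 := by
      ext a
      have h6 : a ∈ FixedPoints.subgroup (zpowers α) A := by rw [h4]; exact mem_top a
      exact h6 ⟨α, mem_zpowers α⟩
    rw [h5, orderOf_one] at hα
    exact hs.one_lt.ne hα
  have hle : p ^ i ≤ p ^ 3 := Nat.pow_le_pow_right hp0 hi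
  have h7 : s ∣ p ^ 3 - p ^ i := (Nat.modEq_iff_dvd' hle).1 h1.symm
  interval_cases i
  · exact Or.inl h7
  · exact Or.inr (Or.inl (by rwa [pow_one] at h7))
  · exact Or.inr (Or.inr h7)
  · exact absurd rfl hi2

/-- the conjugation action of a subgroup on a class meeting it -/
@[instance_reducible]
def clAct {G : Type u} [Group G] (P : Subgroup G) (x : G) : MulAction P {y : G // IsConj x y ∧ y ∈ P} where
  smul g y := ⟨(g : G) * y.1 * (g : G)⁻¹, y.2.1.trans (isConj_iff.2 ⟨g, rfl⟩),
    P.mul_mem (P.mul_mem g.2 y.2.2) (P.inv_mem g.2)⟩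
  one_smul y := by
    apply Subtype.ext
    change ((1 : P) : G) * y.1 * ((1 : P) : G)⁻¹ = y.1
    simp
  mul_smul g h y := by
    apply Subtype.ext
    change ((g * h : P) : G) * y.1 * ((g * h : P) : G)⁻¹ = (g : G) * ((h : G) * y.1 * (h : G)⁻¹) * (g : G)⁻¹
    simp [mul_assoc]

theorem even_of_real {G : Type u} [Group G] [Finite G] (P : Subgroup G) {x : G} (hx : orderOf x = 5)
    (hr : IsConj x x⁻¹) : Even (Nat.card {y : G // IsConj x y ∧ y ∈ P}) := by
  classical
  let T := {y : G // IsConj x y ∧ y ∈ P}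
  have _ : Fintype T := Fintype.ofFinite T
  have hinv : ∀ y : G, IsConj x y → IsConj x y⁻¹ := by
    intro y hy
    obtain ⟨c, hc⟩ := isConj_iff.1 hy
    refine hr.trans (isConj_iff.2 ⟨c, ?_⟩)
    rw [← hc]; group
  let f : Function.End T := fun y => ⟨y.1⁻¹, hinv y.1 y.2.1, P.inv_mem y.2.2⟩
  have hf : f ^ 2 ^ 1 = 1 := by
    rw [pow_one, pow_two]
    funext y
    apply Subtype.ext
    change (y.1⁻¹)⁻¹ = y.1
    rw [inv_inv]
  have : Fact (Nat.Prime 2) := ⟨Nat.prime_two⟩
  have h1 := Equiv.Perm.card_fixedPoints_modEq (p := 2) hf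
  have h2 : Fintype.card (Function.fixedPoints f) = 0 := by
    rw [Fintype.card_eq_zero_iff]
    refine ⟨fun y => ?_⟩
    have h3 : (y : T).1⁻¹ = (y : T).1 := congrArg Subtype.val y.2
    have h4 : orderOf (y : T).1 = 5 := by
      obtain ⟨c, hc⟩ := isConj_iff.1 (y : T).2.1
      rw [← hc]
      have h5 : c * x * c⁻¹ = MulAut.conj c x := rfl
      rw [h5, MulEquiv.orderOf_eq, hx]
    have h5 : (y : T).1 ^ 2 = 1 := by
      rw [pow_two]
      nth_rw 1 [← h3]
      exact inv_mul_cancel _
    have h6 := orderOf_dvd_of_pow_eq_one h5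
    rw [h4] at h6
    norm_num at h6
  rw [h2] at h1
  rw [Nat.card_eq_fintype_card]
  exact (Nat.even_iff).2 h1

theorem real_of_pow {G : Type u} [Group G] {y : G} (hy : orderOf y = 5) {a : ℕ} (ha : a < 5) (h0 : a ≠ 0)
    (h1 : a ≠ 1) (h : IsConj y (y ^ a)) : IsConj y y⁻¹ := by
  have hy5 : y ^ 5 = 1 := hy ▸ pow_orderOf_eq_one y
  have hinv : y⁻¹ = y ^ 4 := by
    rw [inv_eq_iff_mul_eq_one, ← pow_succ', hy5]
  rw [hinv]
  have hp : ∀ n : ℕ, IsConj (y ^ n) ((y ^ a) ^ n) := fun n => by
    obtain ⟨c, hc⟩ := isConj_iff.1 h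
    refine isConj_iff.2 ⟨c, ?_⟩
    rw [← hc, conj_pow]
  interval_cases a
  · exact absurd rfl h0
  · exact absurd rfl h1
  · have h2 := hp 2
    rw [← pow_mul] at h2
    exact h.trans h2
  · have h2 := hp 3
    rw [← pow_mul, show 3 * 3 = 5 + 4 by norm_num, pow_add, hy5, one_mul] at h2
    exact h.trans h2
  · exact h

theorem not_77 {G : Type u} [Group G] [Finite G] (P : Subgroup G) (hP : Nat.card P = 125)
    (hna : ¬ IsMulCommutative P) {x : G} (hx : orderOf x = 5)
    (h77 : Nat.card {y : G // IsConj x y ∧ y ∈ P} = 77) : False := by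
  classical
  have f5 : Fact (Nat.Prime 5) := ⟨by norm_num⟩
  have hPg : IsPGroup 5 P := IsPGroup.of_card (n := 3) (by rw [hP]; norm_num)
  let _ := clAct P x
  let T := {y : G // IsConj x y ∧ y ∈ P}
  have h1 : Nat.card T ≡ Nat.card (MulAction.fixedPoints P T) [MOD 5] := hPg.card_modEq_card_fixedPoints T
  have hT : Nat.card T = 77 := h77
  rw [hT] at h1
  -- the center
  have hZ : Nat.card (center P) = 5 := by
    have h2 : Nat.card (center P) ∣ 5 ^ 3 := by
      have := card_subgroup_dvd_card (center P)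
      rwa [hP, show (125 : ℕ) = 5 ^ 3 by norm_num] at this
    obtain ⟨i, hi, hi'⟩ := (Nat.dvd_prime_pow (by norm_num)).1 h2
    have : Nontrivial P := by
      rw [← Finite.one_lt_card_iff_nontrivial, hP]; norm_num
    have hnt : Nontrivial (center P) := hPg.center_nontrivial
    have h3 : 1 < Nat.card (center P) := Finite.one_lt_card_iff_nontrivial.2 hnt
    have hidx : Nat.card (center P) * (center P).index = 125 := by rw [Subgroup.card_mul_index, hP]
    have hcyc : ¬ IsCyclic (P ⧸ center P) := by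
      intro hc
      exact hna (isMulCommutative_of_isCyclic_quotient_center_self P)
    rw [hi'] at h3 hidx ⊢
    interval_cases i
    · norm_num at h3
    · norm_num
    · exfalso
      apply hcyc
      have h4 : Nat.card (P ⧸ center P) = 5 := by
        change (center P).index = 5
        omega
      exact isCyclic_of_prime_card h4
    · exfalso
      apply hcyc
      have h4 : Nat.card (P ⧸ center P) = 1 := by
        change (center P).index = 1
        omega
      have := (Nat.card_eq_one_iff_unique.1 h4).1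
      infer_instance
  -- fixed points are central
  have hfix : ∀ y : T, y ∈ MulAction.fixedPoints P T → (⟨y.1, y.2.2⟩ : P) ∈ center P := by
    intro y hy
    rw [Subgroup.mem_center_iff]
    intro g
    apply Subtype.ext
    have h2 : (g : G) * y.1 * (g : G)⁻¹ = y.1 := congrArg Subtype.val (hy g)
    change (g : G) * y.1 = y.1 * g
    exact mul_inv_eq_iff_eq_mul.1 h2
  have hord : ∀ y : T, orderOf y.1 = 5 := by
    intro y
    obtain ⟨c, hc⟩ := isConj_iff.1 y.2.1
    rw [← hc]
    have h5 : c * x * c⁻¹ = MulAut.conj c x := rfl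
    rw [h5, MulEquiv.orderOf_eq, hx]
  have hlt : 1 < Nat.card (MulAction.fixedPoints P T) := by
    by_contra h2
    have h3 : Nat.card (MulAction.fixedPoints P T) = 0 ∨ Nat.card (MulAction.fixedPoints P T) = 1 := by omega
    rcases h3 with h3 | h3 <;> rw [h3] at h1 <;> exact absurd h1 (by decide)
  obtain ⟨⟨y1, hy1⟩, ⟨y2, hy2⟩, hne⟩ := Finite.one_lt_card_iff_nontrivial.1 hlt |>.exists_pair_ne
  have hz1 := hfix y1 hy1
  have hz2 := hfix y2 hy2
  -- `y2` is a power of `y1`
  have hpow : ∃ a : ℕ, a < 5 ∧ y2.1 = y1.1 ^ a := by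
    have h2 : orderOf (⟨⟨y1.1, y1.2.2⟩, hz1⟩ : center P) = 5 := by
      rw [Subgroup.orderOf_mk, Subgroup.orderOf_mk, hord]
    have h3 : (⟨⟨y2.1, y2.2.2⟩, hz2⟩ : center P) ∈ zpowers (⟨⟨y1.1, y1.2.2⟩, hz1⟩ : center P) := by
      have h4 : zpowers (⟨⟨y1.1, y1.2.2⟩, hz1⟩ : center P) = ⊤ :=
        Subgroup.eq_top_of_card_eq _ (by rw [Nat.card_zpowers, h2, hZ])
      rw [h4]; exact mem_top _
    rw [mem_zpowers_iff_mem_range_orderOf, h2] at h3
    obtain ⟨a, ha, ha'⟩ := Finset.mem_image.1 h3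
    refine ⟨a, Finset.mem_range.1 ha, ?_⟩
    have h5 := congrArg (fun z : center P => ((z : P) : G)) ha'
    exact h5.symm
  obtain ⟨a, ha, ha'⟩ := hpow
  have ha0 : a ≠ 0 := by
    rintro rfl
    rw [pow_zero] at ha'
    have := hord y2
    rw [ha', orderOf_one] at this
    norm_num at this
  have ha1 : a ≠ 1 := by
    rintro rfl
    rw [pow_one] at ha'
    exact hne (Subtype.ext (Subtype.ext ha'.symm))
  have hconj : IsConj y1.1 (y1.1 ^ a) := by
    rw [← ha']
    exact y1.2.1.symm.trans y2.2.1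
  have hr := real_of_pow (hord y1) ha ha0 ha1 hconj
  have hrx : IsConj x x⁻¹ := by
    obtain ⟨c, hc⟩ := isConj_iff.1 y1.2.1
    refine y1.2.1.trans (hr.trans (isConj_iff.2 ⟨c⁻¹, ?_⟩))
    rw [← hc]; group
  have h2 := even_of_real P hx hrx
  rw [h77] at h2
  exact absurd h2 (by decide)

/-- **McL**: the prime `5` -/
theorem kill_five {G : Type u} [Group G] [Finite G] [IsSimpleGroup G] {n : ℕ} (hn : Nat.card G = n) (h3 : 5 ^ 3 ∣ n)
    (h4 : ¬ 5 ^ 4 ∣ n) (hm : 77 ∣ n) (hk7 : Kill G 7) (hk11 : Kill G 11) (hs7 : Sep G 5 7) (hs11 : Sep G 5 11) :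
    Kill G 5 := by
  intro H ht hK hd
  have f5 : Fact (Nat.Prime 5) := ⟨by norm_num⟩
  have hp : Nat.Prime 5 := by norm_num
  have hn0 : n ≠ 0 := by rw [← hn]; exact Nat.card_pos.ne'
  have hfac : (Nat.card G).factorization 5 = 3 := by
    rw [hn]
    apply le_antisymm
    · by_contra h5
      exact h4 ((hp.pow_dvd_iff_le_factorization hn0).2 (by omega))
    · exact (hp.pow_dvd_iff_le_factorization hn0).1 h3
  obtain ⟨x, hxH, hx⟩ := exists_mem_order hp hd
  have hx1 : x ≠ 1 := by
    rintro rfl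
    rw [orderOf_one] at hx
    norm_num at hx
  obtain ⟨P, hP⟩ := (IsPGroup.of_card (p := 5) (n := 1) (G := zpowers x)
    (by rw [Nat.card_zpowers, hx, pow_one])).exists_le_sylow
  have hxP : x ∈ P := hP (mem_zpowers x)
  have hPc : Nat.card (P : Subgroup G) = 125 := by
    rw [P.card_eq_multiplicity, hfac]; norm_num
  have hco1 : (77 : ℕ).Coprime (Nat.card (centralizer ({x} : Set G))) := by
    rw [show (77 : ℕ) = 7 * 11 by norm_num]
    exact Nat.Coprime.mul_left ((Nat.Prime.coprime_iff_not_dvd (by norm_num)).2 (hs7.not_dvd (by norm_num) hx))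
      ((Nat.Prime.coprime_iff_not_dvd (by norm_num)).2 (hs11.not_dvd (by norm_num) hx))
  have hco2 : (77 : ℕ).Coprime (Nat.card H) := by
    rw [show (77 : ℕ) = 7 * 11 by norm_num]
    exact Nat.Coprime.mul_left ((Nat.Prime.coprime_iff_not_dvd (by norm_num)).2 (hk7 H ht hK))
      ((Nat.Prime.coprime_iff_not_dvd (by norm_num)).2 (hk11 H ht hK))
  by_cases hab : IsMulCommutative (P : Subgroup G)
  · -- abelian Sylow subgroup
    have hx' : x ^ 5 ^ 1 = 1 := by rw [pow_one, ← hx, pow_orderOf_eq_one]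
    obtain ⟨Q, hQ⟩ := Cfsg.Agent.H786.KW.exists_sylow_mem (p := 5) hxH hx'
    have h5 := Cfsg.Agent.H786.KW.Sat.index_centralizer_dvd (hK 5) P hab Q
    have h6 : (centralizer ({x} : Set G)).index ∣
        (centralizer (((Q : Subgroup H).map H.subtype : Subgroup G) : Set G)).index :=
      Subgroup.index_dvd_of_le (centralizer_le (Set.singleton_subset_iff.2 hQ))
    have h7 : 11 ∣ (centralizer ({x} : Set G)).index := by
      have := Subgroup.card_mul_index (centralizer ({x} : Set G))
      rw [hn] at this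
      rcases (show Nat.Prime 11 by norm_num).dvd_mul.1 (this ▸ (dvd_trans (by norm_num : 11 ∣ 77) hm)) with h8 | h8
      · exact absurd h8 (hs11.not_dvd (by norm_num) hx)
      · exact h8
    rcases (show Nat.Prime 11 by norm_num).dvd_mul.1 (h7.trans (h6.trans h5)) with h8 | h8
    · exact hk11 H ht hK (h8.trans ((Q.card_dvd_index).trans (Subgroup.index_dvd_card _)))
    · have key := Subgroup.card_dvd_of_injective _
        (QuotientGroup.kerLift_injective (P : Subgroup G).normalizerMonoidHom)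
      rw [normalizerMonoidHom_ker, ← index, ← relIndex] at key
      have hfin : Finite (MulAut (P : Subgroup G)) :=
        Finite.of_injective (fun (f : MulAut (P : Subgroup G)) (a : (P : Subgroup G)) => f a)
          fun f g hfg => MulEquiv.ext fun a => congrFun hfg a
      have hs' : Fact (Nat.Prime 11) := ⟨by norm_num⟩
      obtain ⟨α, hα⟩ := exists_prime_orderOf_dvd_card' 11 (h8.trans key)
      have h9 := dvd_of_aut3 (p := 5) (A := (P : Subgroup G)) (by rw [hPc]; norm_num) (by norm_num) hα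
      norm_num at h9
  · have h5 := (hK 5).dvd_card_class_inter hxH P hxP (dvd_class hn hm hco1) hco2
    have h6 := Cfsg.Agent.H146.KW.card_class_inter_lt hx1 P
    have h7 := Cfsg.Agent.H146.KW.card_class_inter_pos P hxP
    rw [hPc] at h6
    refine not_77 (P : Subgroup G) hPc hab hx ?_
    change Nat.card {y : G // IsConj x y ∧ y ∈ P} = 77
    omega

end Cfsg.Agent.H550.KW
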