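import Cfsg.Agent.H550.KW.RowsA
import Cfsg.Agent.H436.TwoRu
import Cfsg.Agent.H436.HeFive
import Cfsg.Agent.H859.BigNum
import Cfsg.Agent.H904.McLCent
import Cfsg.Agent.H904.TwoHS
import Cfsg.Agent.H715.Fpr.J2
import Cfsg.Agent.H547.SelfCent.Tits
import Cfsg.Agent.H393.Iso.TitsJ4

/-!
# S4243, sporadic rows, part B: J2, HS, McL, He, Ru, J4 and the Tits group  (helper550)
-/

set_option autoImplicit false
set_option linter.unusedSectionVars false

open Subgroup

namespace Cfsg.Agent.H550.KW

open Cfsg.Agent.H146.KW Cfsg.Agent.NotCT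

universe u v

variable {G : Type u} [Group G] [Finite G] [IsSimpleGroup G]

theorem noKW_j2 (h : Spor.IsoJ2 G) : NoKW G := by
  obtain ⟨e⟩ := id h
  have hn := Orders.j2 h
  have := Cfsg.Agent.H715.Fpr.J2.finite_J2
  have hs : Sep G 5 7 := Sep.of_equiv e (sep_of_card' (c := 7) (by norm_num)
    (fun R hR => (Cfsg.Agent.H715.Fpr.J2.cn7 ⟨MulEquiv.refl _⟩ hR).1.dvd) (by norm_num))
  have h7 : Kill G 7 := kill_one hn (by norm_num) (by norm_num)
  have h5 : Kill G 5 := kill_sq hn (by norm_num) (s := 7) (by norm_num) (by norm_num) (by norm_num) (by norm_num) h7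
    (by norm_num) hs
  refine noKW_of_list hn 2 3 [5, 7] 7 (by norm_num) (by norm_num) (by norm_num) ?_
  simp only [List.forall_mem_cons, List.not_mem_nil, false_imp_iff, implies_true, and_true]
  exact ⟨h5, h7⟩

theorem noKW_tits (h : Cfsg.Lie.IsoTits G) : NoKW G := by
  have hn := Orders.tits h
  have hs : Sep G 5 13 := sep_of_card (c := 13) (by norm_num)
    (fun y hy => (Cfsg.Agent.H547.SelfCent.tits h inferInstance (Cfsg.Agent.H393.Iso.na_tits h) hy).dvd)
    (by norm_num)
  have h13 : Kill G 13 := kill_one hn (by norm_num) (by norm_num)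
  have h5 : Kill G 5 := kill_sq hn (by norm_num) (s := 13) (by norm_num) (by norm_num) (by norm_num) (by norm_num) h13
    (by norm_num) hs
  refine noKW_of_list hn 2 3 [5, 13] 11 (by norm_num) (by norm_num) (by norm_num) ?_
  simp only [List.forall_mem_cons, List.not_mem_nil, false_imp_iff, implies_true, and_true]
  exact ⟨h5, h13⟩

theorem noKW_hs (h : Spor.IsoHS G) : NoKW G := by
  have hn := Orders.hs h
  obtain ⟨-, -, H⟩ := Cfsg.Agent.H904.TwoHS.eleven h
  have hs : Sep G 3 11 := sep_of_card' (c := 11) (by norm_num) (fun R hR => (H R hR).1.dvd) (by norm_num)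
  have h11 : Kill G 11 := kill_one hn (by norm_num) (by norm_num)
  have h7 : Kill G 7 := kill_one hn (by norm_num) (by norm_num)
  have h3 : Kill G 3 := kill_sq hn (by norm_num) (s := 11) (by norm_num) (by norm_num) (by norm_num) (by norm_num) h11
    (by norm_num) hs
  refine noKW_of_list hn 2 5 [3, 7, 11] 9 (by norm_num) (by norm_num) (by norm_num) ?_
  simp only [List.forall_mem_cons, List.not_mem_nil, false_imp_iff, implies_true, and_true]
  exact ⟨h3, h7, h11⟩

theorem noKW_mcl (h : Spor.IsoMcL G) : NoKW G := by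
  have hn := Orders.mcl h
  have hs7 : Sep G 5 7 := sep_of_card' (c := 14) (by norm_num)
    (fun R hR => (Cfsg.Agent.H904.McLCent.seven h R hR).1) (by norm_num)
  have hs11 : Sep G 5 11 := sep_of_card' (c := 11) (by norm_num)
    (fun R hR => (Cfsg.Agent.H904.McLCent.eleven h R hR).1.dvd) (by norm_num)
  have h11 : Kill G 11 := kill_one hn (by norm_num) (by norm_num)
  have h7 : Kill G 7 := kill_one hn (by norm_num) (by norm_num)
  have h5 : Kill G 5 := kill_five hn (by norm_num) (by norm_num) (by norm_num) h7 h11 hs7 hs11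
  refine noKW_of_list hn 2 3 [5, 7, 11] 7 (by norm_num) (by norm_num) (by norm_num) ?_
  simp only [List.forall_mem_cons, List.not_mem_nil, false_imp_iff, implies_true, and_true]
  exact ⟨h5, h7, h11⟩

theorem noKW_he (h : Spor.IsoHe G) : NoKW G := by
  obtain ⟨e⟩ := id h
  have hn := Orders.he h
  have hs75 : Sep G 7 5 := Sep.of_equiv e (sep_of_card (c := 5 * 60) (by norm_num)
    (fun y hy => Cfsg.Agent.H436.HeFive.cent5 y hy) (by norm_num))
  have hs717 : Sep G 7 17 := Sep.of_equiv e (sep_of_card (c := 17 * 1) (by norm_num)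
    (fun y hy => Cfsg.Agent.H436.HeFive.cent17 y hy) (by norm_num))
  have hs517 : Sep G 5 17 := Sep.of_equiv e (sep_of_card (c := 17 * 1) (by norm_num)
    (fun y hy => Cfsg.Agent.H436.HeFive.cent17 y hy) (by norm_num))
  have h17 : Kill G 17 := kill_one hn (by norm_num) (by norm_num)
  have h5 : Kill G 5 := kill_sq hn (by norm_num) (s := 17) (by norm_num) (by norm_num) (by norm_num) (by norm_num) h17
    (by norm_num) hs517
  have hp : ∀ s : ℕ, s.Prime → s ∣ 425 → s = 5 ∨ s = 17 := fun s hs hd => by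
    have := mem_of_dvd_prod hs [5, 17] 2 (by norm_num) (by norm_num) hd
    simpa using this
  have h7 : Kill G 7 := kill_prod hn (m := 425) (a := 3) (by norm_num) (by norm_num)
    (fun s hs hd => by rcases hp s hs hd with rfl | rfl; exacts [h5, h17])
    (fun s hs hd => by rcases hp s hs hd with rfl | rfl; exacts [hs75, hs717]) (by norm_num) (by norm_num)
  refine noKW_of_list hn 2 3 [5, 7, 17] 10 (by norm_num) (by norm_num) (by norm_num) ?_
  simp only [List.forall_mem_cons, List.not_mem_nil, false_imp_iff, implies_true, and_true]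
  exact ⟨h5, h7, h17⟩

theorem noKW_ru (h : Spor.IsoRu G) : NoKW G := by
  have hn := Orders.ru h
  obtain ⟨e1⟩ := id h
  obtain ⟨e2⟩ := Cfsg.Agent.H436.TwoRu.isoH
  let e := e1.trans e2.symm
  have hs29 : Sep G 5 29 := Sep.of_equiv e (sep_of_card (c := 29 * 1) (by norm_num)
    (fun y hy => Cfsg.Agent.H436.TwoRu.cent29 y hy) (by norm_num))
  have hs13 : Sep G 5 13 := Sep.of_equiv e (sep_of_card (c := 13 * 4) (by norm_num)
    (fun y hy => Cfsg.Agent.H436.TwoRu.cent13 y hy) (by norm_num))
  have h7 : Kill G 7 := kill_one hn (by norm_num) (by norm_num)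
  have h13 : Kill G 13 := kill_one hn (by norm_num) (by norm_num)
  have h29 : Kill G 29 := kill_one hn (by norm_num) (by norm_num)
  have hp : ∀ s : ℕ, s.Prime → s ∣ 377 → s = 13 ∨ s = 29 := fun s hs hd => by
    have := mem_of_dvd_prod hs [13, 29] 1 (by norm_num) (by norm_num) hd
    simpa using this
  have h5 : Kill G 5 := kill_prod hn (m := 377) (a := 3) (by norm_num) (by norm_num)
    (fun s hs hd => by rcases hp s hs hd with rfl | rfl; exacts [h13, h29])
    (fun s hs hd => by rcases hp s hs hd with rfl | rfl; exacts [hs13, hs29]) (by norm_num) (by norm_num)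
  refine noKW_of_list hn 2 3 [5, 7, 13, 29] 14 (by norm_num) (by norm_num) (by norm_num) ?_
  simp only [List.forall_mem_cons, List.not_mem_nil, false_imp_iff, implies_true, and_true]
  exact ⟨h5, h7, h13, h29⟩

theorem noKW_j4 (h : Spor.IsoJ4 G) : NoKW G := by
  have hn := Orders.j4 h
  obtain ⟨e⟩ := id h
  have hs37 : Sep G 11 37 := Sep.of_equiv e (sep_of_card' (c := 37) (by norm_num)
    (fun R hR => (Cfsg.Agent.H859.BigNum.data37 hR).1.dvd) (by norm_num))
  have hs43 : Sep G 11 43 := Sep.of_equiv e (sep_of_card' (c := 43) (by norm_num)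
    (fun R hR => (Cfsg.Agent.H859.BigNum.data43 hR).1.dvd) (by norm_num))
  have hk : ∀ q ∈ [5, 7, 23, 29, 31, 37, 43], Kill G q := kills_one hn _ (by norm_num) (by norm_num)
  have hp : ∀ s : ℕ, s.Prime → s ∣ 1591 → s = 37 ∨ s = 43 := fun s hs hd => by
    have := mem_of_dvd_prod hs [37, 43] 1 (by norm_num) (by norm_num) hd
    simpa using this
  have h11 : Kill G 11 := kill_prod hn (m := 1591) (a := 3) (by norm_num) (by norm_num)
    (fun s hs hd => by rcases hp s hs hd with rfl | rfl <;> exact hk _ (by norm_num))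
    (fun s hs hd => by rcases hp s hs hd with rfl | rfl; exacts [hs37, hs43]) (by norm_num) (by norm_num)
  refine noKW_of_list hn 2 3 [11, 5, 7, 23, 29, 31, 37, 43] 21 (by norm_num) (by norm_num) (by norm_num) ?_
  intro q hq
  rcases List.mem_cons.1 hq with rfl | hq
  · exact h11
  · exact hk q hq

end Cfsg.Agent.H550.KW
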