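import Cfsg.Agent.H550.KW.RowsA
import Cfsg.Agent.H314.PSp43Case
import Cfsg.Agent.SigZeroHN.Main
import Cfsg.Agent.H845.CopLy
import Cfsg.Agent.H995.CopCoprime
import Cfsg.Agent.TypeM.FactsLy
import Cfsg.Agent.S0822
import Cfsg.Agent.H251.Der.Facts

/-!
# S4243, sporadic rows, part C: Ly and HN  (helper550)

The subgroup is a simple `{2,3,5}`-group: of order 60, 360 or 25920 by the classification; the classes of the
involutions of `Ly` and `HN` are too large.
-/

set_option autoImplicit false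
set_option linter.unusedSectionVars false

open Subgroup

namespace Cfsg.Agent.H550.KW

open Cfsg.Agent.H146.KW Cfsg.Agent.NotCT Cfsg.Agent.OrdDiv

universe u v

/-- the classification in the universe `u` -/
abbrev AllK : Prop := ∀ (S : Type u) [Group S] [Finite S] [IsSimpleGroup S], Cfsg.IsKnownSimple' S

section

variable {G : Type u} [Group G] [Finite G]

/-- `|x^G| ≤ |x^G ∩ P| |x^H|` -/
theorem class_le {p : ℕ} [Fact p.Prime] {H : Subgroup G} (h : PSub p H) {x : G} (hx : x ∈ H) (hx1 : x ≠ 1)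
    (P : Sylow p G) (hxP : x ∈ P) {c : ℕ} (hc : Nat.card {y : G // ∃ g ∈ H, g * x * g⁻¹ = y} ≤ c) :
    (centralizer ({x} : Set G)).index ≤ (Nat.card P - 1) * c := by
  have h1 := h.card_class_inter_mul hx P hxP
  have h2 := card_class_inter_lt hx1 P
  have : Nonempty {y : G // (∃ g ∈ H, g * x * g⁻¹ = y) ∧ y ∈ P} := ⟨⟨x, ⟨1, H.one_mem, by simp⟩, hxP⟩⟩
  have h3 : 0 < Nat.card {y : G // (∃ g ∈ H, g * x * g⁻¹ = y) ∧ y ∈ P} := Nat.card_pos
  rw [Cfsg.Agent.H786.KW.index_eq_card_isConj x]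
  calc Nat.card {y : G // IsConj x y}
      ≤ Nat.card {y : G // IsConj x y} * Nat.card {y : G // (∃ g ∈ H, g * x * g⁻¹ = y) ∧ y ∈ P} :=
        Nat.le_mul_of_pos_right _ h3
    _ = _ := h1.symm
    _ ≤ (Nat.card P - 1) * c := Nat.mul_le_mul (by omega) hc

/-- the class of `x` in `H` -/
theorem card_hclass {H : Subgroup G} (x : H) :
    Nat.card {y : G // ∃ g ∈ H, g * (x : G) * g⁻¹ = y} = (centralizer ({x} : Set H)).index := by
  rw [Cfsg.Agent.H786.KW.index_eq_card_isConj x]
  refine Nat.card_congr (Equiv.ofBijective (fun y : {y : G // ∃ g ∈ H, g * (x : G) * g⁻¹ = y} =>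
    (⟨⟨y.1, ?_⟩, ?_⟩ : {y : H // IsConj x y})) ⟨?_, ?_⟩)
  · obtain ⟨g, hg, h⟩ := y.2
    rw [← h]
    exact H.mul_mem (H.mul_mem hg x.2) (H.inv_mem hg)
  · obtain ⟨g, hg, h⟩ := y.2
    exact isConj_iff.2 ⟨⟨g, hg⟩, Subtype.ext h⟩
  · intro a b hab
    exact Subtype.ext (congrArg (fun z : {y : H // IsConj x y} => ((z : H) : G)) hab)
  · rintro ⟨y, hy⟩
    obtain ⟨g, hg⟩ := isConj_iff.1 hy
    exact ⟨⟨y, g, g.2, congrArg Subtype.val hg⟩, Subtype.ext (Subtype.ext rfl)⟩

/-- the simple groups of order `2^a 3^b 5^c` -/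
theorem card_235 (hK : AllK.{u}) {H : Type u} [Group H] [Finite H] (hs : IsSimpleGroup H) (hc : ¬ IsMulCommutative H)
    {l : List (ℕ × ℕ)} {N : ℕ} (hv : valid l N = true) (hd : Nat.card H ∣ N)
    (hchk : ((cands l N).all fun g => Nat.beq (ordN g) 60 || Nat.beq (ordN g) 360 || Nat.beq (ordN g) 25920) = true) :
    Nat.card H = 60 ∨ Nat.card H = 360 ∨ Nat.card H = 25920 := by
  obtain ⟨g, hg, ho⟩ := Cfsg.Agent.H995.CopEngine.exists_cand hK (fun h => hc ⟨⟨h⟩⟩) hv hd
  have h1 := (List.all_eq_true.1 hchk) g hg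
  rw [Bool.or_eq_true, Bool.or_eq_true] at h1
  rcases h1 with (h1 | h1) | h1
  · exact Or.inl (ho.trans (Nat.eq_of_beq_eq_true h1))
  · exact Or.inr (Or.inl (ho.trans (Nat.eq_of_beq_eq_true h1)))
  · exact Or.inr (Or.inr (ho.trans (Nat.eq_of_beq_eq_true h1)))

/-- a proper subgroup with the Sylow condition is a `{2,3,5}`-group if the other primes are killed -/
theorem card_dvd_235 [IsSimpleGroup G] {n : ℕ} (hn : Nat.card G = n) {H : Subgroup G} (ht : H ≠ ⊤) (hK : PSubAll H)
    (m N : ℕ) (hmn : n ∣ m * N) (hm : ∀ s : ℕ, s.Prime → s ∣ m → Kill G s) : Nat.card H ∣ N := by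
  have h1 : (Nat.card H).Coprime m := by
    rw [Nat.coprime_iff_gcd_eq_one]
    by_contra h1
    obtain ⟨s, hs, hsd⟩ := Nat.exists_prime_and_dvd h1
    exact hm s hs (hsd.trans (Nat.gcd_dvd_right _ _)) H ht hK (hsd.trans (Nat.gcd_dvd_left _ _))
  exact h1.dvd_of_dvd_mul_left ((hn ▸ card_subgroup_dvd_card H).trans hmn)

/-- an involution of `H` and a Sylow subgroup of `G` -/
theorem exists_inv_sylow {H : Subgroup G} (hd : 2 ∣ Nat.card H) :
    ∃ x ∈ H, orderOf x = 2 ∧ x ≠ 1 := by
  have f2 : Fact (Nat.Prime 2) := ⟨Nat.prime_two⟩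
  obtain ⟨⟨x, hx⟩, ho⟩ := exists_prime_orderOf_dvd_card' 2 hd
  rw [Subgroup.orderOf_mk] at ho
  refine ⟨x, hx, ho, ?_⟩
  rintro rfl
  rw [orderOf_one] at ho
  norm_num at ho

theorem exists_sylow_of_order {p : ℕ} [Fact p.Prime] {x : G} (ho : orderOf x = p) : ∃ P : Sylow p G, x ∈ P := by
  obtain ⟨P, hP⟩ := (IsPGroup.of_card (p := p) (n := 1) (G := zpowers x)
    (by rw [Nat.card_zpowers, ho, pow_one])).exists_le_sylow
  exact ⟨P, hP (mem_zpowers x)⟩

/-- centralizer orders and isomorphisms -/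
theorem card_cent_map {M : Type u} {N : Type v} [Group M] [Group N] (e : M ≃* N) (t : M) :
    Nat.card (centralizer ({e t} : Set N)) = Nat.card (centralizer ({t} : Set M)) := by
  symm
  refine Nat.card_congr (e.toEquiv.subtypeEquiv fun a => ?_)
  rw [mem_centralizer_singleton_iff, mem_centralizer_singleton_iff]
  change _ ↔ e a * e t = e t * e a
  rw [← map_mul, ← map_mul]
  exact e.injective.eq_iff.symm

end

variable {G : Type u} [Group G] [Finite G] [IsSimpleGroup G]

open Cfsg.Agent.Lib.FieldThree (F3) in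
/-- a simple group of order 25920 has an involution with centralizer of order 576 -/
theorem exists_576 (hK : AllK.{u}) {H : Type u} [Group H] [Finite H] (hs : IsSimpleGroup H) (hc : ¬ IsMulCommutative H)
    (h : Nat.card H = 25920) : ∃ x : H, orderOf x = 2 ∧ Nat.card (centralizer ({x} : Set H)) = 576 := by
  have key : ∀ e : H ≃* Cfsg.PSp 2 F3, ∃ x : H, orderOf x = 2 ∧ Nat.card (centralizer ({x} : Set H)) = 576 := by
    intro e
    refine ⟨e.symm Cfsg.Agent.KFacts.PSpFourThree.PE.z, ?_, ?_⟩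
    · rw [MulEquiv.orderOf_eq]
      exact orderOf_eq_prime (by rw [pow_two]; exact Cfsg.Agent.KFacts.PSpFourThree.PE.z_mul_z)
        Cfsg.Agent.KFacts.PSpFourThree.PE.z_ne
    · rw [card_cent_map]
      exact Cfsg.Agent.H314.PSp43Case.card_cent
  obtain ⟨g, hg, hr⟩ := exists_real_filter table (hK H) (fun h => hc ⟨⟨h⟩⟩) (l := [(2, 6), (3, 4), (5, 1)])
    (N := 25920) (by decide +kernel) (by rw [h]) (fun o => Nat.beq o 25920) (by rw [h]; rfl)
  rw [show ((cands [(2, 6), (3, 4), (5, 1)] 25920).filter fun g => Nat.beq (ordN g) 25920) =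
    [.psp 2 3, .psu 4 2] by decide +kernel] at hg
  simp only [List.mem_cons, List.not_mem_nil, or_false] at hg
  rcases hg with rfl | rfl
  · obtain ⟨F, _, _, hF, ⟨e⟩⟩ := hr
    exact key (e.trans (Cfsg.Agent.LieClassical.FieldTransfer.pspCongr 2 (Cfsg.Agent.Lib.FieldThree.equivOfCard hF)))
  · obtain ⟨F, _, _, hF, ⟨e⟩⟩ := hr
    obtain ⟨e'⟩ := Cfsg.Agent.S0822.result (F := F) (K := F3) (by rw [hF]; norm_num) Cfsg.Agent.Lib.FieldThree.F3.card
    exact key (e.trans e')

theorem noKW_ly (hK : AllK.{u}) (h : Spor.IsoLy G) : NoKW G := by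
  intro H hs hc ht hP _
  obtain ⟨-, -, hn, ⟨L⟩⟩ := Cfsg.Agent.TypeM.FactsLy.facts h
  have hdN : Nat.card H ∣ 2 ^ 8 * 3 ^ 7 * 5 ^ 6 := card_dvd_235 hn ht hP (7 * 11 * 31 * 37 * 67) _ (by norm_num)
    fun s hs' hd => by
      have h4 := mem_of_dvd_prod hs' [7, 11, 31, 37, 67] 1 (by norm_num) (by norm_num) hd
      exact kills_one hn _ (by norm_num) (by norm_num) s h4
  have h1 := card_235 hK hs hc (l := [(2, 8), (3, 7), (5, 6)]) (N := 2 ^ 8 * 3 ^ 7 * 5 ^ 6) (by decide +kernel)
    hdN (by decide +kernel)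
  obtain ⟨x, hxH, hx, hx1⟩ := exists_inv_sylow (H := H) (by rcases h1 with h1 | h1 | h1 <;> rw [h1] <;> norm_num)
  have f2 : Fact (Nat.Prime 2) := ⟨Nat.prime_two⟩
  obtain ⟨P, hxP⟩ := exists_sylow_of_order (p := 2) hx
  have h2 := class_le (hP 2) hxH hx1 P hxP (c := 25920)
    ((Nat.le_of_dvd Nat.card_pos (card_hclass_dvd H x)).trans (by rcases h1 with h1 | h1 | h1 <;> rw [h1] <;> norm_num))
  have hPc : Nat.card P = 256 := by
    rw [P.card_eq_multiplicity, hn]
    have : (51765179004000000 : ℕ).factorization 2 = 8 := by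
      rw [show (51765179004000000 : ℕ) = 2 ^ 8 * 202207730484375 by norm_num]
      rw [Nat.factorization_mul (by norm_num) (by norm_num), Nat.Prime.factorization_pow Nat.prime_two]
      simp [Nat.factorization_eq_zero_of_not_dvd (show ¬ 2 ∣ 202207730484375 by norm_num)]
    rw [this]; norm_num
  have h3 : Nat.card (centralizer ({x} : Set G)) = 39916800 := by
    obtain ⟨g, hg⟩ := L.one x (by rw [← pow_two, ← hx, pow_orderOf_eq_one]) hx1
    rw [← hg, ← Cfsg.Agent.H845.CopLy.card_cent L]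
    exact card_cent_map (MulAut.conj g) L.t
  have h4 := Subgroup.card_mul_index (centralizer ({x} : Set G))
  rw [h3, hn] at h4
  rw [hPc] at h2
  omega

theorem noKW_hn (hK : AllK.{u}) (h : Spor.IsoHN G) : NoKW G := by
  intro H hs hc ht hP _
  have hn := Orders.hn h
  obtain ⟨e⟩ := h
  have hdN : Nat.card H ∣ 2 ^ 14 * 3 ^ 6 * 5 ^ 6 := card_dvd_235 hn ht hP (7 * 11 * 19) _ (by norm_num)
    fun s hs' hd => by
      have h4 := mem_of_dvd_prod hs' [7, 11, 19] 1 (by norm_num) (by norm_num) hd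
      exact kills_one hn _ (by norm_num) (by norm_num) s h4
  have h1 := card_235 hK hs hc (l := [(2, 14), (3, 6), (5, 6)]) (N := 2 ^ 14 * 3 ^ 6 * 5 ^ 6) (by decide +kernel)
    hdN (by decide +kernel)
  have f2 : Fact (Nat.Prime 2) := ⟨Nat.prime_two⟩
  have hcard : ∀ P : Sylow 2 G, Nat.card P = 16384 := by
    intro P
    rw [P.card_eq_multiplicity, hn]
    have : (273030912000000 : ℕ).factorization 2 = 14 := by
      rw [show (273030912000000 : ℕ) = 2 ^ 14 * 16664484375 by norm_num]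
      rw [Nat.factorization_mul (by norm_num) (by norm_num), Nat.Prime.factorization_pow Nat.prime_two]
      simp [Nat.factorization_eq_zero_of_not_dvd (show ¬ 2 ∣ 16664484375 by norm_num)]
    rw [this]; norm_num
  -- it suffices to find an involution with few conjugates in `H`
  suffices hx : ∃ x ∈ H, orderOf x = 2 ∧ (centralizer ({x} : Set G)).index ≤ 16383 * 45 by
    obtain ⟨x, hxH, hx, hi⟩ := hx
    have h4 := Subgroup.card_mul_index (centralizer ({x} : Set G))
    have h5 : Nat.card (centralizer ({x} : Set G)) = 177408000 ∨ Nat.card (centralizer ({x} : Set G)) = 3686400 := by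
      rw [← card_cent_map e x]
      rcases Cfsg.Agent.SigZeroHN.card_centralizer_cases (u := e x) (by rw [← hx]; exact e.orderOf_eq x) with h | h
      · exact Or.inl h.2
      · exact Or.inr h.2
    rw [hn] at h4
    rcases h5 with h5 | h5 <;> rw [h5] at h4 <;> omega
  by_cases h2 : Nat.card H = 25920
  · -- the case `PSp₄(3)`
    obtain ⟨x, hx, hxc⟩ := exists_576 hK hs hc h2
    have hxG : orderOf (x : G) = 2 := by rw [Subgroup.orderOf_coe, hx]
    have hx1 : (x : G) ≠ 1 := by
      intro h3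
      rw [h3, orderOf_one] at hxG
      norm_num at hxG
    obtain ⟨P, hxP⟩ := exists_sylow_of_order (p := 2) hxG
    refine ⟨x, x.2, hxG, ?_⟩
    have h3 := class_le (hP 2) x.2 hx1 P hxP (c := 45) (by
      rw [card_hclass x]
      have h4 := Subgroup.card_mul_index (centralizer ({x} : Set H))
      rw [hxc, h2] at h4
      omega)
    rwa [hcard] at h3
  · obtain ⟨x, hxH, hx, hx1⟩ := exists_inv_sylow (H := H) (by rcases h1 with h1 | h1 | h1 <;> rw [h1] <;> norm_num)
    obtain ⟨P, hxP⟩ := exists_sylow_of_order (p := 2) hx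
    refine ⟨x, hxH, hx, ?_⟩
    have h3 := Cfsg.Agent.H786.KW.Sat.index_centralizer_le (hP 2) P hxH (k := 1)
      (by rw [pow_one, ← hx, pow_orderOf_eq_one])
    have h4 : Nat.card {y : G // y ∈ P ∧ IsConj x y} ≤ 16383 := by
      have h5 := card_class_inter_lt hx1 P
      have h6 : Nat.card {y : G // y ∈ P ∧ IsConj x y} = Nat.card {y : G // IsConj x y ∧ y ∈ P} :=
        Nat.card_congr (Equiv.subtypeEquivRight fun _ => and_comm)
      rw [hcard] at h5
      omega
    have h5 : Nat.card (Sylow 2 H) ≤ 45 := by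
      obtain ⟨Q⟩ : Nonempty (Sylow 2 H) := inferInstance
      have h6 := Q.card_dvd_index
      have h7 : ∀ m k : ℕ, Nat.card H = 2 ^ m * k → ¬ 2 ∣ k → Nat.card (Sylow 2 H) ∣ k := by
        intro m k hk h2k
        have hk0 : k ≠ 0 := by rintro rfl; exact h2k (dvd_zero _)
        have h8 : Nat.card Q = 2 ^ m := by
          rw [Q.card_eq_multiplicity, hk, Nat.factorization_mul (by positivity) hk0,
            Nat.Prime.factorization_pow Nat.prime_two]
          simp [Nat.factorization_eq_zero_of_not_dvd h2k]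
        have h9 := (Q : Subgroup H).card_mul_index
        rw [hk] at h9
        have h10 : (Q : Subgroup H).index = k := by
          apply Nat.eq_of_mul_eq_mul_left (show 0 < 2 ^ m by positivity)
          rw [← h9, ← h8]
        rwa [h10] at h6
      rcases h1 with h1 | h1 | h1
      · exact (Nat.le_of_dvd (by norm_num) (h7 2 15 (by rw [h1]; norm_num) (by norm_num))).trans (by norm_num)
      · exact Nat.le_of_dvd (by norm_num) (h7 3 45 (by rw [h1]; norm_num) (by norm_num))
      · exact absurd h1 h2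
    calc _ ≤ _ := h3
      _ ≤ 45 * 16383 := Nat.mul_le_mul h5 h4
      _ = _ := by norm_num

end Cfsg.Agent.H550.KW
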